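import Cfsg.Agent.Lib.Helper6.TCD.Fi23U1.SH
import Cfsg.Agent.Lib.Helper6.TCD.Fi23U1.SC
import Cfsg.Agent.Lib.Helper6.TCD.Fi23U1.NH
import Cfsg.Agent.Lib.Helper6.TCD.Fi23U1.NC
import Cfsg.Agent.Lib.Helper6.TCD.Fi23U1.WD
import Cfsg.Agent.Lib.Helper6.TCD.Fi23U1.WI
set_option autoImplicit false
namespace Cfsg.Agent.Lib.Helper6.TCD.Fi23U1
def n : Nat := 20590
def ncol : Nat := 9
def nrw : Nat := 113
def nw : Nat := 121
def tmax : Nat := 182376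
def INV : Nat := 36344967696
def N : Nat := 14080
end Cfsg.Agent.Lib.Helper6.TCD.Fi23U1
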