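import Cfsg.Agent.Lib.Helper6.TCD.Fi23U1.CS0
import Cfsg.Agent.Lib.Helper6.TCD.Fi23U1.CS1
import Cfsg.Agent.Lib.Helper6.TCD.Fi23U1.CS2
import Cfsg.Agent.Lib.Helper6.TCD.Fi23U1.CS3
import Cfsg.Agent.Lib.Helper6.TCD.Fi23U1.CS4
import Cfsg.Agent.Lib.Helper6.TCD.Fi23U1.CS5
import Cfsg.Agent.Lib.Helper6.TCD.Fi23U1.CS6
import Cfsg.Agent.Lib.Helper6.TCD.Fi23U1.CS7
import Cfsg.Agent.Lib.Helper6.TCD.Fi23U1.CS8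
import Cfsg.Agent.Lib.Helper6.TCD.Fi23U1.CS9
import Cfsg.Agent.Lib.Helper6.TCD.Fi23U1.CS10
import Cfsg.Agent.Lib.Helper6.TCD.Fi23U1.CS11
import Cfsg.Agent.Lib.Helper6.TCD.Fi23U1.CS12
import Cfsg.Agent.Lib.Helper6.TCD.Fi23U1.CS13
import Cfsg.Agent.Lib.Helper6.TCD.Fi23U1.CS14
import Cfsg.Agent.Lib.Helper6.TCD.Fi23U1.CS15
import Cfsg.Agent.Lib.Helper6.TCD.Fi23U1.CS16
import Cfsg.Agent.Lib.Helper6.TCD.Fi23U1.CS17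
import Cfsg.Agent.Lib.Helper6.TCD.Fi23U1.CS18
import Cfsg.Agent.Lib.Helper6.TCD.Fi23U1.CS19
import Cfsg.Agent.Lib.Helper6.TCD.Fi23U1.CS20
import Cfsg.Agent.Lib.Helper6.TCD.Fi23U1.CS21
import Cfsg.Agent.Lib.Helper6.TCD.Fi23U1.CS22
import Cfsg.Agent.Lib.Helper6.TCD.Fi23U1.CS23
import Cfsg.Agent.Lib.Helper6.TCD.Fi23U1.CN0
import Cfsg.Agent.Lib.Helper6.TCD.Fi23U1.CN1
import Cfsg.Agent.Lib.Helper6.TCD.Fi23U1.CN2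
import Cfsg.Agent.Lib.Helper6.TCD.Fi23U1.CN3
import Cfsg.Agent.Lib.Helper6.TCD.Fi23U1.CC
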